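import Cfsg.Agent.H4.Q8.C
import Cfsg.Agent.H4.Q8.End
import Cfsg.Agent.S5774

/-! The centraliser of `σ` for `q = 8`. -/

set_option autoImplicit false
set_option maxRecDepth 100000

namespace Cfsg.Agent.H4.Q8

open Matrix Cfsg.Agent.H5.T3 Cfsg.Agent.H5.C5
open Cfsg.Agent.H2.S7 (ρ τ τ' uu σ δ δ' Φ Av Au Hy σσ endgame7)

variable {M N : Subgroup (GL (Fin 7) F8)}

/-- the centraliser of `σ` -/
def CC (M : Subgroup (GL (Fin 7) F8)) : Subgroup (GL (Fin 7) F8) := M ⊓ Cm σ

/-- restriction to `[V, σ]` -/
def rr (M : Subgroup (GL (Fin 7) F8)) : CC M →* GL (Fin 3) F8 := MonoidHom.toHomUnits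
  { toFun := fun c => Z3ᵀ * c.1.1 * Au F8
    map_one' := by
      change Z3ᵀ * (1 : M7) * Au F8 = 1
      decide +kernel
    map_mul' := fun a b => by
      change Z3ᵀ * (a.1.1 * b.1.1) * Au F8 = _
      rw [Matrix.mul_assoc, Matrix.mul_assoc, (res_eq b.2.2).1]; simp only [Matrix.mul_assoc] }

theorem rr_val (c : CC M) : (rr M c).1 = Z3ᵀ * c.1.1 * Au F8 := rfl

def u3 : M3 := diagonal ![g, g ^ 4, g ^ 2]
def δ3 : M3 := !![0, 0, 1; 1, 0, 0; 0, 1, 0]
def Φ3 : M3 := !![g ^ 5, g ^ 3, g ^ 6; g ^ 3, g ^ 6, g ^ 5; g ^ 6, g ^ 5, g ^ 3]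
def ev (m : Fin 168) : M3 :=
  u3 ^ (m.1 % 7) * δ3 ^ (m.1 / 7 % 3) * if m.1 / 21 = 7 then 1 else Φ3 * u3 ^ (m.1 / 21)
def P3 : GL (Fin 3) F8 := ⟨!![1, g, g ^ 2; 1, g ^ 4, g; 1, g ^ 2, g ^ 4],
  !![1, 1, 1; g ^ 2, g, g ^ 4; g, g ^ 4, g ^ 2], by decide +kernel, by decide +kernel⟩
def Dt (t : F8) : M3 := !![g ^ 4, 0, 1; g ^ 3, 1, 0; g ^ 6, g ^ 4, 0] * diagonal ![t, t⁻¹, 1] *
  !![0, g ^ 2, g ^ 5; 0, g ^ 4, g; 1, g ^ 6, g ^ 2]

/-- the prime field -/
def F2 : Subfield F8 where
  carrier := {x | x ∈ [(0 : F8), 1]}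
  mul_mem' := by simp only [Set.mem_setOf_eq]; decide +kernel
  one_mem' := by simp
  add_mem' := by simp only [Set.mem_setOf_eq]; decide +kernel
  zero_mem' := by simp
  neg_mem' := by simp only [Set.mem_setOf_eq]; decide +kernel
  inv_mem' := by simp only [Set.mem_setOf_eq]; decide +kernel

theorem card_F2 : Nat.card F2 = 2 := by
  change Nat.card {x : F8 // x ∈ [(0 : F8), 1]} = 2
  rw [Nat.card_eq_fintype_card]; decide +kernel

/-- table of words -/
def tab (n : ℕ) : Fin 168 := ⟨(2616529624479427576057426907096759158873863787094142361981752937816764730038199952827590322950931230311841458424793953819662182850887334619361932113339722334365744536936090267049511062230711877842005229979339713902098168696144019170164932182495909972654029964375161527230114779992102447050626355951195105647449827348991624642008588552553185022549480681284883284959817833183675407567298622790550904755500071455146545509397935519152290325137490260195381507847980017389646076242107275818990867850092708288367580613424436864936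51969490796520622358768591238326850392784412915498199984963978883564935137776889533012673991818299097092550904474075178639363176116724172936739345800723834540330668316311501880384720230883492942450708803518855598675205813077215060851890443427775271208156227275260180644212077232648203563450176451809677341589091395032598643500660726019849283407093379283222302131854449950511112884057243251831115170843919207131308442832452080482666507492121592965477013696374721878227973153220921445487760543608060137510744772803674537472018037545990648264340472409436059642960589557501092678263138547949314087087041900222506799929214900648053098838506497577821588063819538342044880638997516159400542208 >>> (8 * n)) % 256 % 168, Nat.mod_lt _ (by decide)⟩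

theorem ev_all : ∀ a ∈ [(0 : F8), 1], ∀ b ∈ [(0 : F8), 1], ∀ c ∈ [(0 : F8), 1], ∀ d ∈ [(0 : F8), 1],
    ∀ e ∈ [(0 : F8), 1], ∀ f ∈ [(0 : F8), 1], ∀ i ∈ [(0 : F8), 1], ∀ j ∈ [(0 : F8), 1], ∀ k ∈ [(0 : F8), 1],
    a * e * k - a * f * j - b * d * k + b * f * i + c * d * j - c * e * i ≠ 0 →
    P3.inv * ev (tab (a.val + 2 * b.val + 4 * c.val + 8 * d.val + 16 * e.val + 32 * f.val + 64 * i.val +
      128 * j.val + 256 * k.val)) * P3.1 = !![a, b, c; d, e, f; i, j, k] := by decide +kernel

theorem ev_inv : ∀ m, ev m * ev m = 1 → ev m = 1 ∨ ∃ v, ev m * ev v = ev v * Φ3 := by decide +kernel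

/-- table of involutions -/
def tab2 (m : Fin 168) : Fin 168 := ⟨(21040189497080671171326009525505003827373763047808471681113512463462609667773385363385298426540644592788571264682792947768894869263305598894718463395990884199874167863674650354232788037588399264104745814259238051998340546600320579133770195996479295352828660093078123136045827961188616903791951017780214273953533943343839950759765470980756508885393170461237412422014287468182015389417175598789197671766831 >>> (8 * m.1)) % 256 % 168, Nat.mod_lt _ (by decide)⟩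

theorem ev_odd' : ∀ m, ev m = 1 ∨ ev (tab2 m) * ev (tab2 m) = 1 ∧
    ev m * ev (tab2 m) * (ev m * ev (tab2 m)) ≠ 1 ∧ ev m * ev (tab2 m) * (ev m * ev (tab2 m)) *
      (ev m * ev (tab2 m) * (ev m * ev (tab2 m))) = 1 := by
  decide +kernel

theorem ev_odd (m : Fin 168) : ev m = 1 ∨ ∃ v, ev v * ev v = 1 ∧ ev m * ev v * (ev m * ev v) ≠ 1 ∧
    ev m * ev v * (ev m * ev v) * (ev m * ev v * (ev m * ev v)) = 1 :=
  (ev_odd' m).imp_right fun h => ⟨_, h⟩

theorem Dt_spec : ∀ t : F8, t ≠ 0 → (1 + t • (Φ3 - 1)) * Dt t = Dt t * Φ3 ∧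
    Dt t 0 0 * Dt t 1 1 * Dt t 2 2 - Dt t 0 0 * Dt t 1 2 * Dt t 2 1 - Dt t 0 1 * Dt t 1 0 * Dt t 2 2 +
      Dt t 0 1 * Dt t 1 2 * Dt t 2 0 + Dt t 0 2 * Dt t 1 0 * Dt t 2 1 - Dt t 0 2 * Dt t 1 1 * Dt t 2 0 = 1 := by
  decide +kernel

end Cfsg.Agent.H4.Q8
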